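import Groth.Agent.H29CurveVan.GloballyGen
import Groth.Agent.H17.EdgeIso.Codim
import Groth.Agent.S10945
import Groth.Agent.H10Coh.TensorBasics
import Groth.Agent.H10Coh.AffineAmple
import Groth.Agent.H11Ample.UnitIso
import Groth.Agent.H17.Dim
import Groth.Agent.S1527
import Groth.Agent.H10Coh.FibreLift.MonoEpi
import Groth.Agent.H24Algz4.QuotCoh

/-!
# Closure properties of globally generated modules with vanishing twisted first cohomology
-/

set_option autoImplicit false
set_option linter.style.haveILetI false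
set_option linter.unusedSectionVars false

noncomputable section

universe u

open CategoryTheory CategoryTheory.Limits AlgebraicGeometry TopologicalSpace Opposite

namespace Groth.Agent.H06DefAmple

attribute [local instance 10000] H10Coh.hasSheafifyAb H10Coh.hasWeakSheafifyAb H10Coh.hasExtAb H10Coh.enoughInjAb

variable {X : Scheme.{u}}

/-- Tensoring with `A` on the right. -/
abbrev TR (A : X.Modules) : X.Modules ⥤ X.Modules := (DCoh.tensorBi (X := X)).flip.obj A

/-- Presentations by free modules, typed in the category of modules on the scheme. -/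
theorem exists_epi_of_gg {M : X.Modules} (h : Curv2.IsGloballyGenerated M) :
    ∃ (ι : Type u) (p : H10Coh.freeMod X ι ⟶ M), Epi p := h

/-- A morphism killed by all global sections of a globally generated module vanishes. -/
theorem eq_zero_of_gg {M N : X.Modules} (h : Curv2.IsGloballyGenerated M) (φ : M ⟶ N)
    (hφ : ∀ s : Coh.structureModule X ⟶ M, s ≫ φ = 0) : φ = 0 := by
  obtain ⟨ι, p, hp⟩ := exists_epi_of_gg h
  rw [← cancel_epi p, comp_zero]
  refine H10Coh.free_hom_ext _ _ fun i => ?_
  rw [comp_zero, ← Category.assoc]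
  exact hφ _

theorem gg_of_eq_zero {M : X.Modules}
    (h : ∀ {N : X.Modules} (φ : M ⟶ N), (∀ s : Coh.structureModule X ⟶ M, s ≫ φ = 0) → φ = 0) :
    Curv2.IsGloballyGenerated M := by
  obtain ⟨p, hp⟩ := H10Coh.exists_free_desc (I := (Coh.structureModule X ⟶ M)) (N := M) fun s => s
  have : Epi p := Preadditive.epi_of_cancel_zero p fun {N} φ hφ => h φ fun s => by
    rw [← hp s, Category.assoc, hφ, comp_zero]
  exact ⟨_, p, this⟩

theorem gg_of_epi {M N : X.Modules} (q : M ⟶ N) [Epi q] (h : Curv2.IsGloballyGenerated M) :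
    Curv2.IsGloballyGenerated N := by
  obtain ⟨ι, p, hp⟩ := exists_epi_of_gg h
  exact ⟨ι, p ≫ q, epi_comp p q⟩

theorem gg_tensor {E F : X.Modules} (hE : Curv2.IsGloballyGenerated E) (hF : Curv2.IsGloballyGenerated F) :
    Curv2.IsGloballyGenerated (CohB1.tensorMod E F) := by
  obtain ⟨ι, p, hp⟩ := exists_epi_of_gg hE
  refine gg_of_eq_zero fun {N} φ hφ => ?_
  let T := TR F
  haveI : PreservesColimitsOfSize.{0, 0} T :=
    haveI := preservesColimitsOfSize_shrink.{0, u, 0, u} T
    inferInstance
  haveI : Epi (T.map p) := inferInstance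
  let φ' : T.obj E ⟶ N := φ
  let hc : IsColimit (Cofan.mk (H10Coh.freeMod X ι) (H10Coh.freeIncl ι)) :=
    SheafOfModules.isColimitFreeCofan (R := X.ringCatSheaf) ι
  have hcol := isColimitCofanMkObjOfIsColimit T _ _ hc
  have h0 : T.map p ≫ φ' = 0 := by
    refine Cofan.IsColimit.hom_ext hcol _ _ fun i => ?_
    show T.map (H10Coh.freeIncl ι i) ≫ T.map p ≫ φ' = T.map (H10Coh.freeIncl ι i) ≫ 0
    rw [comp_zero, ← Category.assoc, ← T.map_comp]
    let l : T.obj (Coh.structureModule X) ≅ F := H10Coh.Tw.leftUnitIso F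
    let s : Coh.structureModule X ⟶ E := H10Coh.freeIncl ι i ≫ p
    have hz : l.inv ≫ T.map s ≫ φ' = 0 := eq_zero_of_gg hF _ fun t => by
      have h1 := hφ (t ≫ l.inv ≫ T.map s)
      refine Eq.trans ?_ h1
      rw [Category.assoc, Category.assoc]
      rfl
    exact (cancel_epi l.inv).1 (hz.trans comp_zero.symm)
  exact (cancel_epi (T.map p)).1 (h0.trans comp_zero.symm)

variable {k : Type u} [Field k] [X.Over (Spec (CommRingCat.of k))]

/-- Middle terms of exact sequences. -/
theorem subsingleton_h1_mid {S : ShortComplex X.Modules} (hS : S.ShortExact)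
    (h1 : Subsingleton (Coh.HH X S.X₁ 1)) (h3 : Subsingleton (Coh.HH X S.X₃ 1)) :
    Subsingleton (Coh.HH X S.X₂ 1) := by
  refine subsingleton_of_forall_eq 0 fun x => ?_
  obtain ⟨y, hy⟩ := Abelian.Ext.covariant_sequence_exact₂ _ (H10Coh.shortExact_sh hS) x
    (Subsingleton.elim (α := Coh.HH X S.X₃ 1) _ _)
  rw [← hy, show y = 0 from Subsingleton.elim (α := Coh.HH X S.X₁ 1) y 0, Abelian.Ext.zero_comp]
  rfl

include k in
variable (k) in
/-- A map with finitely supported cokernel is surjective on first cohomology. -/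
theorem subsingleton_h1_of_cokernel [IsNoetherian X] (hdim : topologicalKrullDim X ≤ 1) {M N : X.Modules}
    (f : M ⟶ N) (hM : Subsingleton (Coh.HH X M 1)) (hC : Subsingleton (Coh.HH X (cokernel f) 1)) :
    Subsingleton (Coh.HH X N 1) := by
  have hI : Subsingleton (Coh.HH X (Abelian.image f) 1) :=
    (H29CurveVan.surjective_one_of_epi (k := k) hdim (Abelian.factorThruImage f)).subsingleton
  have hS : (ShortComplex.mk (Abelian.image.ι f) (cokernel.π f) (kernel.condition _)).ShortExact :=
    { exact := ShortComplex.exact_kernel _ }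
  exact subsingleton_h1_mid hS hI hC

variable [IsProper (X ↘ Spec (CommRingCat.of k))]

include k in
variable (k) in
/-- Surjectivity on sections from vanishing. -/
theorem surjective_top {S : ShortComplex X.Modules} (hS : S.ShortExact)
    (h1 : Subsingleton (Coh.HH X S.X₁ 1)) : Function.Surjective (S.g.val.app (op ⊤)).hom := fun y => by
  let y' : Γ(S.X₃, ⊤) := y
  obtain ⟨x, hx⟩ := Abelian.Ext.covariant_sequence_exact₃ _ (H10Coh.shortExact_sh hS)
    ((H29RR.sec S.X₃).symm y') (n₁ := 1) rfl (Subsingleton.elim (α := Coh.HH X S.X₁ 1) _ _)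
  refine ⟨(H29RR.sec S.X₂ x : Γ(S.X₂, ⊤)), ?_⟩
  have h := H29RR.sec_natural (k := k) S.g x
  have hx' : Canon.HHlin k S.g 0 x = (H29RR.sec S.X₃).symm y' := hx
  rw [hx', AddEquiv.apply_symm_apply] at h
  exact h.symm

include k in
variable (k) in
theorem gg_of_extension (hdim : topologicalKrullDim X ≤ 1)
    (hO : Subsingleton (Coh.HH X (Coh.structureModule X) 1)) {S : ShortComplex X.Modules} (hS : S.ShortExact)
    (hc : Coh.IsCoh S.X₁) (h1 : Curv2.IsGloballyGenerated S.X₁) (h3 : Curv2.IsGloballyGenerated S.X₃) :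
    Curv2.IsGloballyGenerated S.X₂ :=
  Groth.Agent.S10945.result X S hS
    (surjective_top k hS (H29CurveVan.subsingleton_h1_of_gg k hdim hO hc h1)) h1 h3

include k in
variable (k) in
theorem h1_twist_of_extension (hdim : topologicalKrullDim X ≤ 1) {S : ShortComplex X.Modules} (hS : S.ShortExact)
    (A : X.Modules) (h1 : Subsingleton (Coh.HH X (CohB1.tensorMod S.X₁ A) 1))
    (h3 : Subsingleton (Coh.HH X (CohB1.tensorMod S.X₃ A) 1)) :
    Subsingleton (Coh.HH X (CohB1.tensorMod S.X₂ A) 1) := by
  haveI := H29RR.isNoetherian_of_proper (k := k) (X := X)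
  let T := TR A
  haveI : PreservesColimitsOfSize.{0, 0} T :=
    haveI := preservesColimitsOfSize_shrink.{0, u, 0, u} T
    inferInstance
  have hc : IsColimit (CokernelCofork.ofπ (T.map S.g) (by rw [← T.map_comp, S.zero, Functor.map_zero])) :=
    CokernelCofork.mapIsColimit _ hS.gIsCokernel T
  refine subsingleton_h1_of_cokernel k hdim (N := T.obj S.X₂) (T.map S.f) h1 ?_
  let e : cokernel (T.map S.f) ≅ T.obj S.X₃ :=
    (cokernelIsCokernel (T.map S.f)).coconePointUniqueUpToIso hc
  exact (H29RR.hhIso (k := k) e 1).toEquiv.subsingleton_congr.mpr h3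

include k in
variable (k) in
theorem of_torsion_cokernel [IsAlgClosed k] (hdim : topologicalKrullDim X ≤ 1)
    (hO : Subsingleton (Coh.HH X (Coh.structureModule X) 1)) {E₁ E₂ : X.Modules}
    (hE₁ : Coh.IsCoh E₁) (hE₂ : Coh.IsCoh E₂) (φ : E₁ ⟶ E₂)
    (htors : ∀ x ∈ CohB1.support (cokernel φ), IsClosed ({x} : Set X)) (A : X.Modules)
    (hg : Curv2.IsGloballyGenerated E₁) (h1 : Subsingleton (Coh.HH X (CohB1.tensorMod E₁ A) 1)) :
    Curv2.IsGloballyGenerated E₂ ∧ Subsingleton (Coh.HH X (CohB1.tensorMod E₂ A) 1) := by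
  haveI := H29RR.isNoetherian_of_proper (k := k) (X := X)
  haveI : E₁.IsQuasicoherent := hE₁.1
  haveI : E₂.IsQuasicoherent := hE₂.1
  haveI : (cokernel φ).IsQuasicoherent := H10Coh.isQuasicoherent_cokernel φ
  have hC : Coh.IsCoh (cokernel φ) := H24Algz4.isCoh_of_epi (cokernel.π φ) hE₂ inferInstance
  have hI : Coh.IsCoh (Abelian.image φ) := H10Coh.isCoh_kernel (cokernel.π φ) hE₂ inferInstance
  have hcl : IsClosed (CohB1.support (cokernel φ)) := H10Coh.isClosed_support _ hC.2
  haveI : QuasiSober (CohB1.support (cokernel φ)) := hcl.isClosedEmbedding_subtypeVal.quasiSober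
  have hd0 : topologicalKrullDim (CohB1.support (cokernel φ)) ≤ 0 := by
    rw [H17.topologicalKrullDim_eq_krullDim_specialization]
    refine (@Order.krullDim_nonpos_iff_forall_isMin _ (specializationOrder _).toPreorder).2 fun a b hab => ?_
    have h : (a : X) ⤳ (b : X) := (subtype_specializes_iff _ _).1 hab
    have h' : (b : X) = (a : X) := h.mem_closed (htors a a.2) rfl
    rw [(Subtype.ext h' : b = a)]
    exact @le_rfl _ (specializationOrder _).toPreorder _
  have hfs : (CohB1.support (cokernel φ)).Finite := by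
    haveI : CompactSpace (CohB1.support (cokernel φ)) := isCompact_iff_compactSpace.mp hcl.isCompact
    haveI : TopologicalSpace.NoetherianSpace (CohB1.support (cokernel φ)) :=
      Topology.IsInducing.subtypeVal.noetherianSpace
    haveI := (H28Top.finite_discrete_of_dim_le_zero (X := CohB1.support (cokernel φ)) hd0).1
    exact Set.toFinite _
  constructor
  · have hS : (ShortComplex.mk (Abelian.image.ι φ) (cokernel.π φ) (kernel.condition _)).ShortExact :=
      { exact := ShortComplex.exact_kernel _ }
    exact gg_of_extension k hdim hO hS hI (gg_of_epi (Abelian.factorThruImage φ) hg)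
      (Groth.Agent.S1527.result k X _ hC hd0)
  · let T := TR A
    haveI : PreservesColimitsOfSize.{0, 0} T :=
      haveI := preservesColimitsOfSize_shrink.{0, u, 0, u} T
      inferInstance
    refine subsingleton_h1_of_cokernel k hdim (N := T.obj E₂) (T.map φ) h1 ?_
    have hsup : CohB1.support (cokernel (T.map φ)) ⊆ CohB1.support (cokernel φ) := by
      intro x hx
      by_contra h
      haveI : Subsingleton ((T.obj (cokernel φ)).presheaf.stalk x) :=
        H17.EdgeIso.subsingleton_stalk_tensor (cokernel φ) A x (not_not.1 h)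
      exact hx (Function.Injective.subsingleton (f := H06Mod.stalkLin (PreservesCokernel.iso T φ).inv x)
        (H10Coh.FibreLift.injective_stalkLin_of_mono _ x))
    exact H25Par.subsingleton_HH_of_finite_support _ (hfs.subset hsup)
      (fun z hz => htors z (hsup hz)) (fun _ hy => not_not.1 hy) one_pos

end Groth.Agent.H06DefAmple
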